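import Groth.Agent.S2206
import Groth.Agent.S9699
import Groth.Agent.RelRegLib.Scheme
import Groth.Agent.PerfModLib.Mor
import Groth.Agent.LCILocusLib.Scheme

/-!
# Smoothness and the diagonal
-/

set_option autoImplicit false
set_option linter.all false
set_option backward.isDefEq.respectTransparency false
universe u

open CategoryTheory CategoryTheory.Limits AlgebraicGeometry TopologicalSpace TensorProduct

noncomputable section

namespace DiagPerfLib

variable {X Y : Scheme.{u}} (f : X ⟶ Y)

theorem regular_diagonal [IsSeparated f] [Smooth f] :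
    Mor2.IsRegularClosedImmersion (pullback.diagonal f) := by
  refine RelRegLib.isRegularClosedImmersion_of_syntomic (pullback.snd f f) (pullback.diagonal f) ?_
  rw [pullback.diagonal_snd]
  exact Groth.Agent.S9699.result (𝟙 X)

theorem smooth_ring {A B C : Type u} [CommRing A] [CommRing B] [CommRing C] [Algebra A B] [IsNoetherianRing A]
    [Algebra.FiniteType A B] [Module.Flat A B]
    (l r : B →+* C) (μ : C →+* B) (hw : l.comp (algebraMap A B) = r.comp (algebraMap A B))
    (hl : μ.comp l = RingHom.id B) (hr : μ.comp r = RingHom.id B)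
    (hp : ∃ e : (B ⊗[A] B) →+* C, Function.Bijective e ∧ ∀ x y, e (x ⊗ₜ y) = l x * r y)
    (h : PerfModLib.PerfHom μ) : Algebra.Smooth A B := by
  obtain ⟨e, he, hxy⟩ := hp
  letI : Algebra (B ⊗[A] B) B := (μ.comp e).toAlgebra
  refine Groth.Agent.S2206.result (A := A) (B := B) (fun x y => ?_) ?_
  · show μ (e (x ⊗ₜ y)) = x * y
    rw [hxy, map_mul]
    exact congrArg₂ (· * ·) (RingHom.congr_fun hl x) (RingHom.congr_fun hr y)
  · have he' : PerfModLib.PerfHom e := by
      letI := e.toAlgebra
      haveI : Module.Flat (B ⊗[A] B) C := RingHom.Flat.of_bijective he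
      haveI : Algebra.FinitePresentation (B ⊗[A] B) C := RingHom.FinitePresentation.of_bijective he
      exact PerfModLib.isPerfectHom_of_flat
    exact (PerfModLib.PerfHom.comp he' h).2

theorem smooth_of_perfect [IsSeparated f] [LocallyOfFiniteType f] [IsLocallyNoetherian Y] [Flat f]
    (h : MoreMor.IsPerfectMor (pullback.diagonal f)) : Smooth f := by
  rw [HasRingHomProperty.iff_exists_appLE (P := @Smooth) (RingHom.Smooth.stableUnderComposition.stableUnderCompositionWithLocalizationAway RingHom.Smooth.holdsForLocalizationAway).1]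
  intro x
  obtain ⟨V, hV, hxV, -⟩ := exists_isAffineOpen_mem_and_subset (x := f x) (U := ⊤) trivial
  obtain ⟨U, hU, hxU, hUV⟩ := exists_isAffineOpen_mem_and_subset (x := x) (U := f ⁻¹ᵁ V) hxV
  refine ⟨⟨V, hV⟩, ⟨U, hU⟩, hxU, hUV, ?_⟩
  obtain ⟨hW, hP⟩ := LCILocusLib.pullback_chart (IsPullback.of_hasPullback f f) hV hU hUV hU hUV
  set W := pullback.fst f f ⁻¹ᵁ U ⊓ pullback.snd f f ⁻¹ᵁ U with hWdef
  have eW : U ≤ pullback.diagonal f ⁻¹ᵁ W := by
    intro y hy
    refine ⟨?_, ?_⟩
    · show pullback.fst f f (pullback.diagonal f y) ∈ U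
      rw [← Scheme.Hom.comp_apply, pullback.diagonal_fst]
      exact hy
    · show pullback.snd f f (pullback.diagonal f y) ∈ U
      rw [← Scheme.Hom.comp_apply, pullback.diagonal_snd]
      exact hy
  letI := (f.appLE V U hUV).hom.toAlgebra
  haveI : IsNoetherianRing Γ(Y, V) := IsLocallyNoetherian.component_noetherian ⟨V, hV⟩
  haveI : Algebra.FiniteType Γ(Y, V) Γ(X, U) := f.finiteType_appLE hV hU hUV
  haveI : Module.Flat Γ(Y, V) Γ(X, U) := f.flat_appLE hV hU hUV
  let l := (pullback.fst f f).appLE U W inf_le_left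
  let r := (pullback.snd f f).appLE U W inf_le_right
  let μ := (pullback.diagonal f).appLE W U eW
  refine smooth_ring (A := Γ(Y, V)) l.hom r.hom μ.hom (congrArg CommRingCat.Hom.hom hP.w) ?_ ?_ ?_
    (h U W hU hW eW)
  · rw [← CommRingCat.hom_comp, Scheme.Hom.appLE_comp_appLE]
    simp only [pullback.diagonal_fst]
    simp [Scheme.Hom.id_app, Scheme.Hom.appLE]
    exact RingHom.ext fun z => ConcreteCategory.congr_hom (X.presheaf.map_id (Opposite.op U)) z
  · rw [← CommRingCat.hom_comp, Scheme.Hom.appLE_comp_appLE]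
    simp only [pullback.diagonal_snd]
    simp [Scheme.Hom.id_app, Scheme.Hom.appLE]
    exact RingHom.ext fun z => ConcreteCategory.congr_hom (X.presheaf.map_id (Opposite.op U)) z
  · skip
    refine ⟨((CommRingCat.pushoutCoconeIsColimit Γ(Y, V) Γ(X, U) Γ(X, U)).coconePointUniqueUpToIso hP.isColimit).hom.hom,
      ConcreteCategory.bijective_of_isIso
        ((CommRingCat.pushoutCoconeIsColimit Γ(Y, V) Γ(X, U) Γ(X, U)).coconePointUniqueUpToIso hP.isColimit).hom,
      fun x y => ?_⟩
    have h1 := ConcreteCategory.congr_hom (IsColimit.comp_coconePointUniqueUpToIso_hom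
      (CommRingCat.pushoutCoconeIsColimit Γ(Y, V) Γ(X, U) Γ(X, U)) hP.isColimit WalkingSpan.left) x
    have h2 := ConcreteCategory.congr_hom (IsColimit.comp_coconePointUniqueUpToIso_hom
      (CommRingCat.pushoutCoconeIsColimit Γ(Y, V) Γ(X, U) Γ(X, U)) hP.isColimit WalkingSpan.right) y
    rw [show x ⊗ₜ[Γ(Y, V)] y = (x ⊗ₜ (1 : Γ(X, U))) * ((1 : Γ(X, U)) ⊗ₜ y) by
      rw [Algebra.TensorProduct.tmul_mul_tmul, mul_one, one_mul], map_mul]
    exact congrArg₂ (· * ·) h1 h2

theorem main [IsSeparated f] [LocallyOfFiniteType f] [QuasiCompact f] [IsLocallyNoetherian X] [IsLocallyNoetherian Y] :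
    (Smooth f ↔ Flat f ∧ Mor2.IsRegularClosedImmersion (pullback.diagonal f)) ∧
    (Smooth f ↔ Flat f ∧ MoreMor.IsPerfectMor (pullback.diagonal f)) :=
  ⟨⟨fun h => ⟨inferInstance, regular_diagonal f⟩,
      fun ⟨hf, h⟩ => smooth_of_perfect f (PerfModLib.perfectMor_of_regularClosedImmersion _ h)⟩,
    ⟨fun h => ⟨inferInstance, PerfModLib.perfectMor_of_regularClosedImmersion _ (regular_diagonal f)⟩,
      fun ⟨hf, h⟩ => smooth_of_perfect f h⟩⟩

end DiagPerfLib
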